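import Groth.Agent.LefEssSurj.Extends
import Groth.Agent.Purity.Equiv
import Groth.Agent.Purity.SectionsNormal
import Groth.Agent.CodimOneIso.Basic
import Groth.Agent.BiratCodimTwo.Basic
import Groth.Agent.S9829
import Groth.Prelude.Def_Pi1

/-!
Birational invariance of the category of finite étale covers: proper birational morphisms from a
normal scheme onto a regular one.
-/

set_option autoImplicit false
set_option backward.isDefEq.respectTransparency false
set_option linter.style.haveILetI false
universe u
open CategoryTheory CategoryTheory.Limits AlgebraicGeometry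

namespace Groth.Agent.PurBirat

/-- A functor is fully faithful when a composite with a faithful one is so. -/
theorem full_faithful_of_comp {X Y Z : Scheme.{u}} (f : X ⟶ Y) (g : Y ⟶ Z) (h : X ⟶ Z) (w : f ≫ g = h)
    [(FEt.restrict h).Full] [(FEt.restrict h).Faithful] [(FEt.restrict f).Faithful] :
    (FEt.restrict g).Full ∧ (FEt.restrict g).Faithful := by
  let e := Groth.Agent.LefEssSurj.restrictComp f g h w
  haveI : (FEt.restrict g ⋙ FEt.restrict f).Full := Functor.Full.of_iso e
  haveI : (FEt.restrict g ⋙ FEt.restrict f).Faithful := Functor.Faithful.of_iso e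
  haveI : (FEt.restrict g).Faithful := Functor.Faithful.of_comp (FEt.restrict g) (FEt.restrict f)
  exact ⟨Functor.Full.of_comp_faithful (FEt.restrict g) (FEt.restrict f), inferInstance⟩

/-- On a normal integral scheme, restriction of finite étale covers to a nonempty open is fully faithful. -/
theorem restrict_ι_full_faithful {X : Scheme.{u}} [IsIntegral X]
    (hX : ∀ x : X, IsIntegrallyClosed (X.presheaf.stalk x)) (U : X.Opens) [Nonempty U] :
    (FEt.restrict U.ι).Full ∧ (FEt.restrict U.ι).Faithful := by
  have hXgen : ∀ z : X, z = genericPoint X →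
      (FEt.restrict (X.fromSpecStalk z)).Full ∧ (FEt.restrict (X.fromSpecStalk z)).Faithful := by
    rintro _ rfl
    exact Groth.Agent.Purity.restrict_full_faithful_genericPoint X hX
  have hU : ∀ x : U.toScheme, IsIntegrallyClosed (U.toScheme.presheaf.stalk x) := fun x => by
    haveI := hX x.1
    exact IsIntegrallyClosed.of_equiv (U.stalkIso x).symm.commRingCatIsoToRingEquiv
  obtain ⟨_, hfa⟩ := Groth.Agent.Purity.restrict_full_faithful_genericPoint U.toScheme hU
  set η := genericPoint U.toScheme
  obtain ⟨hfull, hfaith⟩ := hXgen (U.ι η) (genericPoint_eq_of_isOpenImmersion U.ι)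
  haveI := Groth.Agent.LefEssSurj.restrict_isEquivalence_of_isIso (Spec.map (U.ι.stalkMap η))
  let e := Groth.Agent.LefEssSurj.restrictComp (Spec.map (U.ι.stalkMap η)) (X.fromSpecStalk (U.ι η))
    (U.toScheme.fromSpecStalk η ≫ U.ι) (Scheme.SpecMap_stalkMap_fromSpecStalk U.ι)
  haveI : (FEt.restrict (U.toScheme.fromSpecStalk η ≫ U.ι)).Full := Functor.Full.of_iso e.symm
  haveI : (FEt.restrict (U.toScheme.fromSpecStalk η ≫ U.ι)).Faithful := Functor.Faithful.of_iso e.symm
  exact full_faithful_of_comp (U.toScheme.fromSpecStalk η) U.ι _ rfl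

/-- A morphism which is an isomorphism over a nonempty open, between integral schemes, matches the generic points. -/
theorem genericPoint_of_isIso {X Y : Scheme.{u}} (f : X ⟶ Y) [IsIntegral X] [IsIntegral Y] (V : Y.Opens)
    (hV : (V : Set Y).Nonempty) [IsIso (f ∣_ V)] :
    f (genericPoint ↥X) = genericPoint ↥Y ∧ Function.Bijective (f.stalkMap (genericPoint ↥X)) := by
  have hηV : genericPoint Y ∈ V := ((genericPoint_spec Y).mem_open_set_iff V.2).2 (by simpa using hV)
  obtain ⟨x₀, hx₀⟩ : ∃ x, f x = genericPoint Y := by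
    obtain ⟨z, hz⟩ := (f ∣_ V).surjective ⟨genericPoint Y, hηV⟩
    exact ⟨z.1, (morphismRestrict_base_coe f V z).symm.trans (congrArg Subtype.val hz)⟩
  have hξ : f (genericPoint X) = genericPoint Y :=
    ((genericPoint_specializes (f (genericPoint X))).antisymm
      (hx₀ ▸ (genericPoint_specializes x₀).map f.continuous)).eq.symm
  refine ⟨hξ, ?_⟩
  haveI : IsIso (f.stalkMap (genericPoint X)) := by
    rw [← MorphismProperty.isomorphisms.iff, ← (MorphismProperty.isomorphisms CommRingCat).arrow_mk_iso_iff
      (morphismRestrictStalkMap f V ⟨genericPoint X, show f (genericPoint X) ∈ V by rw [hξ]; exact hηV⟩)]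
    exact inferInstanceAs (IsIso ((f ∣_ V).stalkMap _))
  exact ConcreteCategory.bijective_of_isIso _

/-- A proper birational morphism from a normal integral scheme to a regular one induces an equivalence
of the categories of finite étale covers. -/
theorem restrict_isEquivalence {X Y : Scheme.{u}} (f : X ⟶ Y) [IsProper f] [IsIntegral X] [IsIntegral Y]
    [IsLocallyNoetherian Y] (hX : ∀ x : X, IsIntegrallyClosed (X.presheaf.stalk x))
    (hY : ∀ y : Y, IsRegularLocalRing (Y.presheaf.stalk y))
    (V : Y.Opens) (hV : (V : Set Y).Nonempty) [IsIso (f ∣_ V)] : (FEt.restrict f).IsEquivalence := by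
  obtain ⟨hξ, hbij⟩ := genericPoint_of_isIso f V hV
  set W : Y.Opens := ⨆ U : {U : Y.Opens // IsIso (f ∣_ U)}, U.1
  haveI hW : IsIso (f ∣_ W) := Groth.Agent.BiratCodimTwo.isIso_iSup f
  have hdim : ∀ y : Y, y ∉ W → (2 : WithBot ℕ∞) ≤ ringKrullDim (Y.presheaf.stalk y) := fun y hy => by
    by_contra hlt
    have hle : ringKrullDim (Y.presheaf.stalk y) ≤ 1 := by
      revert hlt
      generalize ringKrullDim (Y.presheaf.stalk y) = d
      intro hlt
      induction d with
      | bot => exact bot_le
      | coe d =>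
        have h2 : ¬ (2 : ℕ∞) ≤ d := fun h => hlt (WithBot.coe_le_coe.2 h)
        exact_mod_cast Order.le_of_lt_succ (lt_of_not_ge h2)
    haveI := hY y
    obtain ⟨U, hyU, hU⟩ := Groth.Agent.CodimOneIso.exists_nhd_isIso f hξ hbij y
      (Groth.Agent.S9829.result _) hle
    exact hy (TopologicalSpace.Opens.mem_iSup.2 ⟨⟨U, hU⟩, hyU⟩)
  haveI := Groth.Agent.Purity.restrict_isEquivalence (U := W) hY hdim
  haveI : Nonempty (f ⁻¹ᵁ W : X.Opens) := by
    refine ⟨⟨genericPoint X, ?_⟩⟩
    show f (genericPoint X) ∈ W
    rw [hξ]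
    refine ((genericPoint_spec Y).mem_open_set_iff W.2).2 ?_
    rw [Set.univ_inter]
    exact hV.mono (le_iSup (fun U : {U : Y.Opens // IsIso (f ∣_ U)} => U.1) ⟨V, inferInstance⟩)
  obtain ⟨h₁, h₂⟩ := restrict_ι_full_faithful hX (f ⁻¹ᵁ W)
  haveI := Groth.Agent.LefEssSurj.restrict_isEquivalence_of_isIso (f ∣_ W)
  exact Groth.Agent.LefEssSurj.isEquivalence_of_square (morphismRestrict_ι f W).symm

end Groth.Agent.PurBirat
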